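import Groth.Agent.SerrePn.Lau
import Groth.Agent.CohDev.Coh
import Groth.Agent.ProjProper.Basic
import Groth.Agent.QCoh.Exact
import Groth.Agent.S0022
import Groth.Agent.CohLES.Basic

/-!
Coherence of twists, very negative presentations of coherent modules, vanishing above the dimension.
-/

open CategoryTheory CategoryTheory.Limits AlgebraicGeometry TopologicalSpace Opposite

universe u

noncomputable section

namespace Groth.Agent.SerrePn

open Twist MvPolynomial Groth.Agent.ProjTwist Groth.Agent.ProjTwist.Pn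

set_option synthInstance.maxHeartbeats 400000
set_option maxHeartbeats 1000000

variable {n : ℕ} {R : Type u} [CommRing R]

theorem isAffineOpen_dI {I : Finset (Fin (n + 1))} (hI : I.Nonempty) :
    IsAffineOpen (X := CohB1.ProjSpace n R) (dI R I) :=
  Proj.isAffineOpen_basicOpen (CohB1.polyGrading n R) _ (mI_mem _) (Finset.card_pos.mpr hI)

theorem exists_mem_dI_singleton (x : CohB1.ProjSpace n R) :
    ∃ l, x ∈ (dI R {l} : (CohB1.ProjSpace n R).Opens) := by
  obtain ⟨l, hl⟩ := Opens.mem_iSup.mp ((iSup_stdOpen n R).ge (trivial : x ∈ (⊤ : Opens _)))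
  refine ⟨l, ?_⟩
  show mI R {l} ∉ (show ProjectiveSpectrum (CohB1.polyGrading n R) from x).asHomogeneousIdeal
  rw [mI_eq_prod, Finset.prod_singleton]
  exact hl

theorem isCoh_twist (d : ℤ) : Coh.IsCoh (twistProjSpace n R d) := by
  refine ⟨isQCoh_twistProjSpace n R d, ?_⟩
  have : (twistProjSpace n R d).IsQuasicoherent := isQCoh_twistProjSpace n R d
  refine QCoh.isFiniteType_of_forall_exists _ fun x => ?_
  obtain ⟨l, hl⟩ := exists_mem_dI_singleton x
  let U : (CohB1.ProjSpace n R).Opens := dI R {l}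
  refine ⟨U, isAffineOpen_dI (Finset.singleton_nonempty l), hl, ?_⟩
  refine Module.Finite.of_surjective (LinearMap.toSpanSingleton Γ(CohB1.ProjSpace n R, U)
    Γ(twistProjSpace n R d, U) (gen d (Finset.mem_singleton_self l))) fun s => ?_
  obtain ⟨c, hc⟩ := (bijective_smul_unitSec (X_mem_polyGrading n R l) d (op (dI R {l}))
    (X_not_mem (Finset.mem_singleton_self l))).surjective s
  exact ⟨c, hc⟩

theorem isCoh_coprod {X : Scheme.{u}} {κ : Type u} [Finite κ] (M : κ → X.Modules)
    (h : ∀ j, Coh.IsCoh (M j)) : Coh.IsCoh (∐ M) := by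
  classical
  have := Fintype.ofFinite κ
  have hq : ∀ j, (M j).IsQuasicoherent := fun j => (h j).1
  have hS : (∐ M).IsQuasicoherent := QCoh.isQuasicoherent_coproduct M
  refine ⟨hS, (QCoh.isFiniteType_iff _).mpr fun U hU => ?_⟩
  have := fun j => CohDev.finite_sections (h j) hU
  refine Module.Finite.of_surjective (∑ j, (CohDev.appLin (Sigma.ι M j) U).comp (LinearMap.proj j) :
    (Π j, Γ(M j, U)) →ₗ[Γ(X, U)] _) fun x => ⟨fun j => (Sigma.π M j).app U x, ?_⟩
  have key : ∀ (s : Finset κ) (f : κ → (∐ M ⟶ ∐ M)), (∑ j ∈ s, f j).app U x = ∑ j ∈ s, (f j).app U x :=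
    fun s f => map_sum (AddMonoidHom.mk' (fun g : ∐ M ⟶ ∐ M => g.app U x) fun _ _ => rfl) f s
  rw [LinearMap.sum_apply]
  refine Eq.trans ?_ ((key _ _).symm.trans (congrArg (fun g => g.app U x) (CohLES.sum_π_ι M)))
  rfl

theorem isLocallyNoetherian [IsNoetherianRing R] : IsLocallyNoetherian (CohB1.ProjSpace n R) :=
  have := ProjProper.Basic.isProper_toSpec n R
  LocallyOfFiniteType.isLocallyNoetherian (CohB1.ProjSpace.toSpec n R)

theorem subsingleton_HH_of_lt {M : (CohB1.ProjSpace n R).Modules} (hM : Coh.IsQCoh M) {i : ℕ}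
    (hi : n < i) : Subsingleton (Coh.HH (CohB1.ProjSpace n R) M i) :=
  @Groth.Agent.S0022.result n R _ M hM i hi

/-- Twist data can be shifted to a larger exponent. -/
theorem exists_twistData_ge {E r : ℕ} {g : Fin r → MvPolynomial (Fin (n + 1)) R}
    (hg : ∀ i, g i ∈ CohB1.polyGrading n R E) (hE : 0 < E) {F : (Proj (CohB1.polyGrading n R)).Modules}
    [F.IsQuasicoherent] (l : Fin r)
    (s : Γ(F, Proj.basicOpen (CohB1.polyGrading n R) (g l))) (m₀ : ℕ) :
    ∃ (m : ℕ) (D : TwistData g hg F m), m₀ ≤ m ∧ D.σ l = s := by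
  obtain ⟨m, D, hD⟩ := exists_twistData g hg hE F l s
  have hmul : ∀ (i j : Fin r) (N : ℕ),
      fracFun (hg j) (hg i) (inf_le_left : Proj.basicOpen (CohB1.polyGrading n R) (g i) ⊓
          Proj.basicOpen (CohB1.polyGrading n R) (g j) ≤ _) ^ N *
        fracFun (hg l) (hg j) inf_le_right ^ N = fracFun (hg l) (hg i) inf_le_left ^ N := fun i j N => by
    rw [← mul_pow, mul_comm]
    exact congrArg (· ^ N) (fracFun_mul_fracFun (hg l) (hg j) (hg i) inf_le_right inf_le_left)
  refine ⟨m + m₀, ⟨fun i => fracFun (hg l) (hg i) le_rfl ^ m₀ • D.σ i, fun i j => ?_⟩,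
    Nat.le_add_left _ _, ?_⟩
  · rw [QCoh.res_smul, QCoh.res_smul, rres_fracFun_pow, rres_fracFun_pow, D.compat i j, smul_smul,
      smul_smul, ← hmul i j m₀, pow_add]
    congr 1
    ring
  · show fracFun (hg l) (hg l) le_rfl ^ m₀ • D.σ l = s
    rw [fracFun_self, one_pow, one_smul, hD]

/-- A coherent module is a quotient of a finite sum of very negative twists. -/
theorem exists_epi_proj (F : (Proj (CohB1.polyGrading n R)).Modules) (hF : Coh.IsCoh F) (N : ℕ) :
    ∃ (κ : Type u) (_ : Finite κ) (d : κ → ℕ)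
      (φ : (∐ fun j : κ => twist (CohB1.polyGrading n R) (-(d j : ℤ))) ⟶ F), Epi φ ∧ ∀ j, N ≤ d j := by
  classical
  have : F.IsQuasicoherent := hF.1
  have := hF.2
  let g : Fin (n + 1) → MvPolynomial (Fin (n + 1)) R := X
  have hg : ∀ i, g i ∈ CohB1.polyGrading n R 1 := X_mem_polyGrading n R
  have hcov : ⨆ i, Proj.basicOpen (CohB1.polyGrading n R) (g i) = ⊤ := iSup_stdOpen n R
  have hfin : ∀ l, ∃ S : Finset Γ(F, Proj.basicOpen (CohB1.polyGrading n R) (g l)),
      Submodule.span Γ(Proj (CohB1.polyGrading n R), Proj.basicOpen (CohB1.polyGrading n R) (g l))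
        (S : Set Γ(F, Proj.basicOpen (CohB1.polyGrading n R) (g l))) = ⊤ := fun l =>
    (QCoh.finite_sections_of_isFiniteType F
      (Proj.isAffineOpen_basicOpen (CohB1.polyGrading n R) _ (hg l) one_pos)).fg_top
  choose S hS using hfin
  choose m D hm hD using fun p : Σ l, {s // s ∈ S l} =>
    exists_twistData_ge hg one_pos (F := F) p.1 p.2.1 N
  let κ := ULift.{u} (Fin (Fintype.card (Σ l, {s // s ∈ S l})))
  let e : κ ≃ Σ l, {s // s ∈ S l} := Equiv.ulift.trans (Fintype.equivFin _).symm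
  refine ⟨κ, inferInstance, fun k => m (e k) • 1, Sigma.desc fun k => (D (e k)).hom hcov, ?_,
    fun k => by simpa using hm (e k)⟩
  refine Preadditive.epi_of_cancel_zero _ fun {Q} π hπ => ?_
  refine eq_zero_of_app_eq_zero π (fun l => Proj.basicOpen (CohB1.polyGrading n R) (g l))
    (fun l => Proj.isAffineOpen_basicOpen (CohB1.polyGrading n R) _ (hg l) one_pos) hcov
    fun l x => ?_
  refine app_eq_zero_of_span π (hS l) (fun s hs => ?_) x
  obtain ⟨k, hk⟩ := e.surjective ⟨l, s, hs⟩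
  have h0 : (D (e k)).hom hcov ≫ π = 0 := by
    rw [← Sigma.ι_desc (fun k => (D (e k)).hom hcov) k, Category.assoc, hπ, comp_zero]
  have key : ∀ (p : Σ l, {s // s ∈ S l}) (_ : (D p).hom hcov ≫ π = 0),
      π.app (Proj.basicOpen (CohB1.polyGrading n R) (g p.1)) p.2.1 = 0 := by
    intro p hp
    have hpow : Proj.basicOpen (CohB1.polyGrading n R) (g p.1) ≤
        Proj.basicOpen (CohB1.polyGrading n R) (g p.1 ^ m p) := by
      rcases m p with _ | m'
      · rw [pow_zero, Proj.basicOpen_one]; exact le_top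
      · rw [Proj.basicOpen_pow _ _ (m' + 1) (Nat.succ_pos m')]
    rw [← hD p, ← (D p).hom_app_denSec hcov p.1 hpow]
    exact congr(($hp).app _ (denSec (SetLike.pow_mem_graded (m p) (hg p.1)) hpow))
  rw [hk] at h0
  exact key ⟨l, s, hs⟩ h0

/-- A coherent module on `P^n` is a quotient of a finite sum of very negative twists. -/
theorem exists_epi (F : (CohB1.ProjSpace n R).Modules) (hF : Coh.IsCoh F) (N : ℕ) :
    ∃ (κ : Type u) (_ : Finite κ) (d : κ → ℕ)
      (φ : (∐ fun j : κ => twistProjSpace n R (-(d j : ℤ))) ⟶ F), Epi φ ∧ ∀ j, N ≤ d j :=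
  exists_epi_proj F hF N

end Groth.Agent.SerrePn
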