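import Groth.Agent.ProjTwist.Pn.Twist
import Groth.Agent.ModShf.GrothAb
import Groth.Agent.S0491
import Groth.Agent.CohLES.Basic
import Mathlib.Algebra.Homology.DerivedCategory.Ext.MapBijective

/-!
`Ext^i(O(a), O(b)) = 0` when `H^i(O(b-a)) = 0`: twisting is an exact autoequivalence.
-/

open CategoryTheory CategoryTheory.Limits AlgebraicGeometry

universe u

noncomputable section

namespace Groth.Agent.SerrePn

open Groth.Agent.ProjTwist

variable {X : Scheme.{u}}

set_option maxHeartbeats 1000000

theorem unitTensor_natural {N N' : ModSite.Mod X.sheaf} (f : N ⟶ N') :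
    ((ModSite.tensorBi X.sheaf).obj (SheafOfModules.unit (ModSite.ringSh X.sheaf))).map f ≫
        (KFlat.TensorLocFree.unitTensorIso (X := X) N').hom =
      (KFlat.TensorLocFree.unitTensorIso (X := X) N).hom ≫ f := by
  have e := congrArg (ModSite.shPre X.sheaf).map
    (MonoidalCategory.leftUnitor_naturality ((ModSite.toPre X.sheaf).map f))
  rw [Functor.map_comp, Functor.map_comp] at e
  have c := (KFlat.preAdj X.sheaf).counit.naturality f
  refine (Category.assoc _ _ _).symm.trans ((congrArg (· ≫ _) e).trans ?_)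
  exact (Category.assoc _ _ _).trans ((congrArg (_ ≫ ·) c).trans (Category.assoc _ _ _).symm)

/-- `O ⊗ -` is the identity. -/
def unitTensorNatIso : (DCoh.tensorBi (X := X)).obj (Coh.structureModule X) ≅ 𝟭 X.Modules :=
  NatIso.ofComponents (fun N => KFlat.TensorLocFree.unitTensorIso N)
    (fun f => unitTensor_natural f)

/-- Tensoring twice. -/
def tensorCompIso (L M N : X.Modules) (e : CohB1.tensorMod L M ≅ N) :
    (DCoh.tensorBi (X := X)).obj M ⋙ (DCoh.tensorBi (X := X)).obj L ≅
      (DCoh.tensorBi (X := X)).obj N :=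
  (((ModFlat.tensorBiAssoc X.sheaf).app L).app M).symm ≪≫ (DCoh.tensorBi (X := X)).mapIso e

theorem subsingleton_ext_unit [HasExt.{u} X.Modules] (M : X.Modules) (i : ℕ)
    (h : Subsingleton (Coh.HH X M i)) :
    Subsingleton (Abelian.Ext (Coh.structureModule X) M i) := by
  have := @Groth.Agent.S0491.result _ _ (Opens.grothendieckTopology X) X.ringCatSheaf ‹HasExt.{u} X.Modules› M i
  exact this.elim fun e => @Equiv.subsingleton _ _ (@AddEquiv.toEquiv _ _ _ _ e) h

variable {n : ℕ} {R : Type u} [CommRing R]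

/-- Twisting on the left. -/
abbrev twL (n : ℕ) (R : Type u) [CommRing R] (d : ℤ) :
    (CohB1.ProjSpace n R).Modules ⥤ (CohB1.ProjSpace n R).Modules :=
  (DCoh.tensorBi (X := CohB1.ProjSpace n R)).obj (Twist.twistProjSpace n R d)

/-- Twisting twice by opposite integers. -/
def twLCompIso (a b : ℤ) (h : a + b = 0) : twL n R b ⋙ twL n R a ≅ 𝟭 _ :=
  tensorCompIso _ _ (Coh.structureModule (CohB1.ProjSpace n R))
    ((nonempty_twistProjSpace_tensor n R a b).some ≪≫
      eqToIso (by rw [h]; rfl) ≪≫ (twistZeroIso (CohB1.polyGrading n R)).symm) ≪≫ unitTensorNatIso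

/-- Twisting is an equivalence. -/
def twEquiv (d : ℤ) : (CohB1.ProjSpace n R).Modules ≌ (CohB1.ProjSpace n R).Modules :=
  CategoryTheory.Equivalence.mk (twL n R d) (twL n R (-d))
    (twLCompIso (-d) d (neg_add_cancel d)).symm (twLCompIso d (-d) (add_neg_cancel d))

theorem subsingleton_ext_twist [HasExt.{u} (CohB1.ProjSpace n R).Modules] (a b : ℤ) (i : ℕ)
    (h : Subsingleton (Coh.HH (CohB1.ProjSpace n R) (Twist.twistProjSpace n R (b - a)) i)) :
    Subsingleton (Abelian.Ext (Twist.twistProjSpace n R a) (Twist.twistProjSpace n R b) i) := by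
  let F := (twEquiv (n := n) (R := R) (-a)).functor
  have : F.Additive := Functor.additive_of_preserves_binary_products _
  have : F.PreservesInjectiveObjects :=
    Functor.preservesInjectiveObjects_of_adjunction_of_preservesMonomorphisms
      (twEquiv (n := n) (R := R) (-a)).symm.toAdjunction
  have hb := Functor.mapExt_bijective_of_preservesInjectiveObjects F (Twist.twistProjSpace n R a)
    (Twist.twistProjSpace n R b) i
  let eA : F.obj (Twist.twistProjSpace n R a) ≅ Coh.structureModule (CohB1.ProjSpace n R) :=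
    (nonempty_twistProjSpace_tensor n R (-a) a).some ≪≫ eqToIso (by rw [neg_add_cancel]; rfl) ≪≫
      (twistZeroIso (CohB1.polyGrading n R)).symm
  let eB : F.obj (Twist.twistProjSpace n R b) ≅ Twist.twistProjSpace n R (b - a) :=
    (nonempty_twistProjSpace_tensor n R (-a) b).some ≪≫ eqToIso (by rw [show -a + b = b - a by ring])
  have : Subsingleton (Abelian.Ext (Coh.structureModule (CohB1.ProjSpace n R))
      (Twist.twistProjSpace n R (b - a)) i) := subsingleton_ext_unit _ i h
  refine ⟨fun x y => hb.1 ?_⟩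
  have key : ∀ z : Abelian.Ext (F.obj (Twist.twistProjSpace n R a)) (F.obj (Twist.twistProjSpace n R b)) i,
      z = 0 := fun z => by
    have hz : ((Abelian.Ext.mk₀ eA.inv).comp z (zero_add i)).comp (Abelian.Ext.mk₀ eB.hom) (add_zero i) = 0 :=
      Subsingleton.elim _ _
    have := congrArg (fun w => ((Abelian.Ext.mk₀ eA.hom).comp w (zero_add i)).comp
      (Abelian.Ext.mk₀ eB.inv) (add_zero i)) hz
    simpa [Abelian.Ext.comp_assoc_of_third_deg_zero, Abelian.Ext.mk₀_comp_mk₀_assoc] using this
  exact (key _).trans (key _).symm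

open Classical in
theorem subsingleton_ext_coprod [HasExt.{u} X.Modules] {κ : Type u} [Finite κ] (M : κ → X.Modules)
    (N : X.Modules) (i : ℕ) (h : ∀ j, Subsingleton (Abelian.Ext (M j) N i)) :
    Subsingleton (Abelian.Ext (∐ M) N i) := by
  have := Fintype.ofFinite κ
  refine subsingleton_of_forall_eq 0 fun x => ?_
  let g : (∐ M ⟶ ∐ M) →+ Abelian.Ext (∐ M) N i :=
    AddMonoidHom.mk' (fun f => (Abelian.Ext.mk₀ f).comp x (zero_add i)) fun f f' => by
      rw [Abelian.Ext.mk₀_add, Abelian.Ext.add_comp]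
  have e : g (𝟙 _) = x := Abelian.Ext.mk₀_id_comp x
  rw [← e, ← CohLES.sum_π_ι M, map_sum]
  refine Finset.sum_eq_zero fun j _ => ?_
  show (Abelian.Ext.mk₀ (Sigma.π M j ≫ Sigma.ι M j)).comp x (zero_add i) = 0
  rw [← Abelian.Ext.mk₀_comp_mk₀, Abelian.Ext.comp_assoc (Abelian.Ext.mk₀ (Sigma.π M j)) (Abelian.Ext.mk₀ (Sigma.ι M j)) x (zero_add 0) (zero_add i) (show 0 + 0 + i = i by omega),
    (h j).elim ((Abelian.Ext.mk₀ (Sigma.ι M j)).comp x (zero_add i)) 0, Abelian.Ext.comp_zero]

end Groth.Agent.SerrePn
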