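import Groth.Agent.SerrePn.Duality
import Groth.Agent.SerrePn.ExtTwist
import Groth.Prelude.Def_KLin
import Mathlib.Algebra.Homology.DerivedCategory.Ext.Linear
import Mathlib.LinearAlgebra.Dual.Lemmas

/-!
Serre duality on `P^n` over a field for coherent modules: `Ext^i(F, ω) ≅ H^{n-i}(F)^∨`.
-/

open CategoryTheory CategoryTheory.Limits AlgebraicGeometry CategoryTheory.Abelian

universe u

noncomputable section

namespace Groth.Agent.SerrePn

set_option maxHeartbeats 1000000
set_option synthInstance.maxHeartbeats 400000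

section Alg

variable {k : Type*} [Field k] {A B V W X : Type*} [AddCommGroup A] [Module k A] [AddCommGroup B]
  [Module k B] [AddCommGroup V] [Module k V] [AddCommGroup W] [Module k W] [AddCommGroup X]
  [Module k X]

/-- The cokernel of a transposed map is the dual of the kernel. -/
theorem nonempty_equiv_dual_ker (d : A →ₗ[k] X) (hd : Function.Surjective d) (r : B →ₗ[k] A)
    (hex : LinearMap.ker d = LinearMap.range r) (θA : A ≃ₗ[k] Module.Dual k V)
    (θB : B ≃ₗ[k] Module.Dual k W) (a : V →ₗ[k] W) (hr : ∀ b, θA (r b) = a.dualMap (θB b)) :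
    Nonempty (X ≃ₗ[k] Module.Dual k (LinearMap.ker a)) := by
  let Φ : A →ₗ[k] Module.Dual k (LinearMap.ker a) := (LinearMap.ker a).dualRestrict.comp θA.toLinearMap
  have hΦ : Function.Surjective Φ := Subspace.dualRestrict_surjective.comp θA.surjective
  have hker : LinearMap.ker Φ = LinearMap.ker d := by
    rw [hex]
    ext x
    rw [LinearMap.mem_ker, LinearMap.comp_apply, ← LinearMap.mem_ker,
      Submodule.dualRestrict_ker_eq_dualAnnihilator, ← LinearMap.range_dualMap_eq_dualAnnihilator_ker]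
    constructor
    · rintro ⟨y, hy⟩
      refine ⟨θB.symm y, θA.injective ?_⟩
      rw [hr, LinearEquiv.apply_symm_apply, hy]
      rfl
    · rintro ⟨b, rfl⟩
      exact ⟨θB b, (hr b).symm⟩
  exact ⟨(LinearMap.quotKerEquivOfSurjective d hd).symm ≪≫ₗ Submodule.quotEquivOfEq _ _ hker.symm ≪≫ₗ
    LinearMap.quotKerEquivOfSurjective Φ hΦ⟩

end Alg

variable {n : ℕ} {k : Type u} [Field k]

/-- Scalars on cohomology come from scalars on the module. -/
theorem mapL_smulMod (F : (CohB1.ProjSpace n k).Modules) (a : k) (q : ℕ)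
    (x : Coh.HH (CohB1.ProjSpace n k) F q) : CohLES.mapL k (Formal.smulMod k F a) q x = a • x := rfl

theorem pairing_smul (F : (CohB1.ProjSpace n k).Modules) (a : k) (φ : F ⟶ omega n k) :
    pairing n k F (a • φ) = a • pairing n k F φ := by
  refine LinearMap.ext fun x => ?_
  rw [KLin.smul_def, pairing_comp, LinearMap.comp_apply, mapL_smulMod, map_smul,
    LinearMap.smul_apply]

/-- Duality in degree zero. -/
def θ₀ [HasExt.{u} (CohB1.ProjSpace n k).Modules] (F : (CohB1.ProjSpace n k).Modules)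
    (hF : Coh.IsCoh F) :
    Ext F (omega n k) 0 ≃ₗ[k] Module.Dual k (Coh.HH (CohB1.ProjSpace n k) F n) :=
  Ext.linearEquiv₀.trans (LinearEquiv.ofBijective
    { toFun := pairing n k F
      map_add' := map_add _
      map_smul' := pairing_smul F }
    ⟨(injective_iff_map_eq_zero _).mpr (pairing_injective F hF), exists_pairing_eq F hF⟩)

theorem θ₀_mk₀ [HasExt.{u} (CohB1.ProjSpace n k).Modules] (F : (CohB1.ProjSpace n k).Modules)
    (hF : Coh.IsCoh F) (φ : F ⟶ omega n k) : θ₀ F hF (Ext.mk₀ φ) = pairing n k F φ := by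
  show pairing n k F (Ext.linearEquiv₀ (R := k) (Ext.mk₀ φ)) = _
  congr 1
  exact (Ext.homEquiv₀).apply_symm_apply φ

theorem mapL_zero_injective {X : Scheme.{u}} [X.Over (Spec (CommRingCat.of k))] {M N : X.Modules}
    (f : M ⟶ N) [Mono f] : Function.Injective (CohLES.mapL k f 0) := by
  refine (injective_iff_map_eq_zero _).mpr fun x hx => ?_
  obtain ⟨g, rfl⟩ := (Ext.mk₀_bijective _ _).2 x
  have : Mono ((ModShf.toAbFunctor X).map f) := inferInstance
  have h : g ≫ (ModShf.toAbFunctor X).map f = 0 := by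
    apply (Ext.mk₀_bijective _ _).1
    rw [← Ext.mk₀_comp_mk₀, Ext.mk₀_zero]
    exact hx
  rw [show g = 0 from (cancel_mono ((ModShf.toAbFunctor X).map f)).mp (h.trans zero_comp.symm),
    Ext.mk₀_zero]

section Step

variable [HasExt.{u} (CohB1.ProjSpace n k).Modules] {κ : Type u} [Finite κ] (d : κ → ℕ)
  (hd : ∀ j, n + 1 ≤ d j)

/-- The very negative sum of twists. -/
abbrev negSum : (CohB1.ProjSpace n k).Modules :=
  ∐ fun j => Twist.twistProjSpace n k (-(d j : ℤ))

include hd

theorem subsingleton_HH_negSum (q : ℕ) (hq : q < n) :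
    Subsingleton (Coh.HH (CohB1.ProjSpace n k) (negSum (n := n) (k := k) d) q) := by
  refine CohLES.subsingleton_coprod k _ q fun j => ?_
  cases q with
  | zero => exact ProjTwist.Pn.subsingleton_H0 (by omega) (by have := hd j; omega)
  | succ q => exact ProjTwist.Pn.subsingleton_twist _ q (Or.inl (by omega))

theorem subsingleton_ext_negSum (i : ℕ) :
    Subsingleton (Ext (negSum (n := n) (k := k) d) (omega n k) (i + 1)) := by
  refine subsingleton_ext_coprod _ _ _ fun j => subsingleton_ext_twist _ _ _ ?_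
  exact ProjTwist.Pn.subsingleton_twist _ i (Or.inr (by have := hd j; omega))

variable {K F : (CohB1.ProjSpace n k).Modules} {f : K ⟶ negSum (n := n) (k := k) d}
  {g : negSum (n := n) (k := k) d ⟶ F} {w : f ≫ g = 0}
  (hS : (ShortComplex.mk f g w).ShortExact)

/-- The connecting map on Ext. -/
def extδ (i j : ℕ) (h : 1 + i = j) :
    Ext K (omega n k) i →ₗ[k] Ext F (omega n k) j :=
  Ext.precompOfLinear hS.extClass k (omega n k) h

theorem extδ_surjective (i j : ℕ) (h : 1 + i = j) : Function.Surjective (extδ d hS i j h) := by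
  intro x
  have := subsingleton_ext_negSum (k := k) d hd i
  obtain rfl : j = i + 1 := by omega
  exact Ext.contravariant_sequence_exact₃ hS _ x
    (Subsingleton.elim (α := Ext (negSum (n := n) (k := k) d) (omega n k) (i + 1)) _ _) h

include hS in
theorem nonempty_ext_one (hK : Coh.IsCoh K) :
    Nonempty (Ext F (omega n k) 1 ≃ₗ[k]
      Module.Dual k (LinearMap.ker (CohLES.mapL k f n))) := by
  have hE : Coh.IsCoh (negSum (n := n) (k := k) d) := isCoh_coprod _ fun j => isCoh_twist _
  refine nonempty_equiv_dual_ker (extδ d hS 0 1 rfl) (extδ_surjective d hd hS 0 1 rfl)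
    (Ext.precompOfLinear (Ext.mk₀ f) k (omega n k) (zero_add 0)) ?_ (θ₀ K hK) (θ₀ _ hE) _ fun b => ?_
  · ext x
    refine ⟨fun hx => Ext.contravariant_sequence_exact₁ hS _ x rfl hx, ?_⟩
    rintro ⟨y, rfl⟩
    show hS.extClass.comp ((Ext.mk₀ f).comp y (zero_add 0)) (show 1 + 0 = 1 from rfl) = 0
    rw [← Ext.comp_assoc hS.extClass (Ext.mk₀ f) y (add_zero 1) (zero_add 0) (by omega)]
    exact (congrArg (fun e => Ext.comp e y (add_zero 1)) hS.extClass_comp).trans (Ext.zero_comp ..)
  · obtain ⟨φ, rfl⟩ := (Ext.mk₀_bijective _ _).2 b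
    show θ₀ K hK ((Ext.mk₀ f).comp (Ext.mk₀ φ) (zero_add 0)) = _
    rw [Ext.mk₀_comp_mk₀, θ₀_mk₀, θ₀_mk₀, pairing_comp]
    rfl

theorem extδ_bijective (i j : ℕ) (h : 1 + i = j) (hi : 0 < i) :
    Function.Bijective (extδ d hS i j h) := by
  refine ⟨(injective_iff_map_eq_zero _).mpr fun x hx => ?_, extδ_surjective d hd hS i j h⟩
  obtain ⟨i', rfl⟩ : ∃ i', i = i' + 1 := ⟨i - 1, by omega⟩
  have := subsingleton_ext_negSum (k := k) d hd i'
  obtain ⟨y, rfl⟩ := Ext.contravariant_sequence_exact₁ hS _ x h hx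
  show (Ext.mk₀ f).comp y _ = 0
  rw [Subsingleton.elim (α := Ext (negSum (n := n) (k := k) d) (omega n k) (i' + 1)) y 0,
    Ext.comp_zero]

theorem δL_injective (q q' : ℕ) (h : q + 1 = q') (hq : q < n) :
    Function.Injective (CohLES.δL k hS q q' h) := by
  refine (injective_iff_map_eq_zero _).mpr fun x hx => ?_
  have := subsingleton_HH_negSum (k := k) d hd q hq
  obtain ⟨y, rfl⟩ := CohLES.exact₃ k hS h x hx
  rw [Subsingleton.elim (α := Coh.HH (CohB1.ProjSpace n k) (negSum (n := n) (k := k) d) q) y 0]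
  exact map_zero _

include hS in
theorem nonempty_ker_equiv (q : ℕ) (hq : q + 1 = n) :
    Nonempty (Coh.HH (CohB1.ProjSpace n k) F q ≃ₗ[k] LinearMap.ker (CohLES.mapL k f n)) := by
  refine ⟨LinearEquiv.ofBijective ((CohLES.δL k hS q n hq).codRestrict _ fun x =>
    CohLES.mapL_δL k hS hq x) ⟨fun x y h => δL_injective d hd hS q n hq (by omega)
      (congrArg Subtype.val h), fun x => ?_⟩⟩
  obtain ⟨y, hy⟩ := CohLES.exact₁ k hS hq x.1 x.2
  exact ⟨y, Subtype.ext hy⟩

theorem δL_bijective (q q' : ℕ) (h : q + 1 = q') (hq : q' < n) :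
    Function.Bijective (CohLES.δL k hS q q' h) := by
  refine ⟨δL_injective d hd hS q q' h (by omega), fun x => ?_⟩
  have := subsingleton_HH_negSum (k := k) d hd q' hq
  exact CohLES.exact₁ k hS h x (Subsingleton.elim _ _)

include hS in
theorem subsingleton_HH_zero (hn : 0 < n) : Subsingleton (Coh.HH (CohB1.ProjSpace n k) K 0) := by
  have := subsingleton_HH_negSum (k := k) d hd 0 hn
  have : Mono f := hS.mono_f
  exact (mapL_zero_injective (k := k) f).subsingleton

end Step

/-- The duality statement in degree `i`. -/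
abbrev DualAt [HasExt.{u} (CohB1.ProjSpace n k).Modules] (i : ℕ)
    (F : (CohB1.ProjSpace n k).Modules) : Prop :=
  (i ≤ n → Nonempty (Ext F (omega n k) i ≃ₗ[k]
      Module.Dual k (Coh.HH (CohB1.ProjSpace n k) F (n - i)))) ∧
    (n < i → Subsingleton (Ext F (omega n k) i))

theorem dualAt [HasExt.{u} (CohB1.ProjSpace n k).Modules] : ∀ (i : ℕ)
    (F : (CohB1.ProjSpace n k).Modules), Coh.IsCoh F → DualAt i F := by
  have := isLocallyNoetherian (n := n) (R := k)
  intro i
  induction i with
  | zero => exact fun F hF => ⟨fun _ => ⟨θ₀ F hF⟩, fun h => absurd h (by omega)⟩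
  | succ i ih =>
    intro F hF
    obtain ⟨κ, hκ, d, π, hπ, hd⟩ := exists_epi F hF (n + 1)
    have hE : Coh.IsCoh (negSum (n := n) (k := k) d) := isCoh_coprod _ fun j => isCoh_twist _
    have hS : (ShortComplex.mk (kernel.ι π) π (kernel.condition π)).ShortExact :=
      { exact := ShortComplex.exact_of_f_is_kernel _ (kernelIsKernel π) }
    have hK : Coh.IsCoh (kernel π) := CohDev.isCoh_kernel π hE hF.1
    rcases Nat.eq_zero_or_pos i with rfl | hi
    · obtain ⟨e⟩ := nonempty_ext_one d hd hS hK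
      refine ⟨fun h => ?_, fun h => ?_⟩
      · obtain ⟨e'⟩ := nonempty_ker_equiv d hd hS (n - 1) (by omega)
        exact ⟨e ≪≫ₗ e'.dualMap⟩
      · obtain rfl : n = 0 := by omega
        have : Subsingleton (LinearMap.ker (CohLES.mapL k (kernel.ι π) 0)) :=
          ⟨fun x y => Subtype.ext (mapL_zero_injective (k := k) (kernel.ι π) (x.2.trans y.2.symm))⟩
        exact e.toEquiv.subsingleton
    · let e := LinearEquiv.ofBijective _ (extδ_bijective d hd hS i (i + 1) (add_comm 1 i) hi)
      refine ⟨fun h => ?_, fun h => ?_⟩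
      · obtain ⟨e₁⟩ := (ih (kernel π) hK).1 (by omega)
        let e₂ := LinearEquiv.ofBijective _
          (δL_bijective d hd hS (n - (i + 1)) (n - i) (by omega) (by omega))
        exact ⟨e.symm ≪≫ₗ e₁ ≪≫ₗ e₂.dualMap⟩
      · have : Subsingleton (Ext (kernel π) (omega n k) i) := by
          rcases Nat.lt_or_ge n i with hni | hni
          · exact (ih (kernel π) hK).2 hni
          · obtain ⟨e₁⟩ := (ih (kernel π) hK).1 hni
            obtain rfl : i = n := by omega
            have : Subsingleton (Coh.HH (CohB1.ProjSpace i k) (kernel π) (i - i)) := by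
              rw [Nat.sub_self]
              exact subsingleton_HH_zero d hd hS hi
            exact e₁.toEquiv.subsingleton
        exact e.symm.toEquiv.subsingleton

end Groth.Agent.SerrePn
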