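import Groth.Agent.ProjTwist.Pn.Sections
import Groth.Agent.ProjTwist.Zero
import Groth.Agent.ProjTwist.Quotient
import Groth.Agent.ProjTwist.Pn.H0

/-!
Morphisms between twists of `P^n` as multiplication by Laurent polynomials.
-/

open CategoryTheory AlgebraicGeometry TopologicalSpace Opposite

universe u

noncomputable section

namespace Groth.Agent.SerrePn

open Twist MvPolynomial Groth.Agent.ProjTwist Groth.Agent.ProjTwist.Pn

variable {n : ℕ} {R : Type u} [CommRing R]

set_option synthInstance.maxHeartbeats 400000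
set_option maxHeartbeats 1000000

theorem fracLau_mul (I : Finset (Fin (n + 1))) (j k : ℕ) (a b : MvPolynomial (Fin (n + 1)) R) :
    fracLau I (j + k) (a * b) = fracLau I j a * fracLau I k b := by
  have e : (AddMonoidAlgebra.single (-((j + k) • ind I)) (1 : R) : Lau n R) =
      AddMonoidAlgebra.single (-(j • ind I)) 1 * AddMonoidAlgebra.single (-(k • ind I)) 1 := by
    rw [AddMonoidAlgebra.single_mul_single, one_mul, add_nsmul, neg_add]
  rw [fracLau, fracLau, fracLau, map_mul, e]
  ring

theorem secLau_mulSec {a b c : ℤ} (h : a + b = c) {I : Finset (Fin (n + 1))} (hI : I.Nonempty)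
    (s : sectN (𝒜 := CohB1.polyGrading n R) a (op (dI R I)))
    (t : sectN (𝒜 := CohB1.polyGrading n R) b (op (dI R I))) :
    secLau c hI (mulSec h s t) = secLau a hI s * secLau b hI t := by
  obtain ⟨i, j, p, hp⟩ := exists_isRep a hI s
  obtain ⟨i', j', q, hq⟩ := exists_isRep b hI t
  rw [secLau_eq hI hp, secLau_eq hI hq, secLau_eq hI (i := i + i') (j := j + j') (a := p * q)
    ⟨hp.1.mul hq.1, by push_cast; linear_combination hp.2.1 + hq.2.1 + h, fun x => ?_⟩, fracLau_mul]
  rw [mulSec_coe, hp.2.2 x, hq.2.2 x]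
  refine mk_mul_mk.trans ?_
  congr 1
  exact Subtype.ext (pow_add _ _ _).symm

theorem X_not_mem {I : Finset (Fin (n + 1))} {l : Fin (n + 1)} (hl : l ∈ I) (x : dI R I) :
    (X l : MvPolynomial (Fin (n + 1)) R) ∉ x.1.asHomogeneousIdeal := fun h => x.2 (by
  show mI R I ∈ x.1.asHomogeneousIdeal.toIdeal
  rw [mI_eq_prod, ← Finset.mul_prod_erase _ _ hl]
  exact Ideal.mul_mem_right _ _ h)

/-- The generator `T_l ^ a` of `O(a)` over `D₊(T^I)`, `l ∈ I`. -/
def gen (a : ℤ) {I : Finset (Fin (n + 1))} {l : Fin (n + 1)} (hl : l ∈ I) :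
    sectN (𝒜 := CohB1.polyGrading n R) a (op (dI R I)) :=
  unitSec (X_mem_polyGrading n R l) a _ (X_not_mem hl)

theorem secLau_gen (a : ℤ) {I : Finset (Fin (n + 1))} {l : Fin (n + 1)} (hl : l ∈ I) :
    secLau a ⟨l, hl⟩ (gen (R := R) a hl) = AddMonoidAlgebra.single (a • ind {l}) 1 := by
  classical
  have hsub : ({l} : Finset (Fin (n + 1))) ⊆ I := Finset.singleton_subset_iff.mpr hl
  have e : gen (R := R) a hl =
      resN a (homOfLE (dI_anti (R := R) hsub)).op (gen (R := R) a (Finset.mem_singleton_self l)) :=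
    rfl
  have hrep : IsRep a ({l} : Finset (Fin (n + 1))) (gen (R := R) a (Finset.mem_singleton_self l))
      a.toNat (-a).toNat (X l ^ a.toNat) := by
    refine ⟨isHomogeneous_X_pow l _, ?_, fun x => ?_⟩
    · rw [Finset.card_singleton, Nat.cast_one, mul_one]
      omega
    refine (unitAt_zpow x.1 (X_not_mem (Finset.mem_singleton_self l) x) a.toNat (-a).toNat a
      (by omega)).trans ?_
    congr 1
    exact Subtype.ext (by simp [mI_eq_prod])
  rw [e, secLau_res hsub (Finset.singleton_nonempty l) _ _, secLau_eq _ hrep, fracLau,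
    show (X l : MvPolynomial (Fin (n + 1)) R) = mI R {l} by simp [mI_eq_prod], toLau_mI_pow,
    AddMonoidAlgebra.single_mul_single, one_mul]
  congr 1
  rw [← sub_eq_add_neg, ← natCast_zsmul, ← natCast_zsmul, ← sub_smul]
  congr 1
  omega

theorem exists_secLau_smul {I : Finset (Fin (n + 1))} (hI : I.Nonempty)
    (c : O (𝒜 := CohB1.polyGrading n R) (op (dI R I))) :
    ∃ q : Lau n R, ∀ (a : ℤ) (s : sectN (𝒜 := CohB1.polyGrading n R) a (op (dI R I))),
      secLau a hI (c • s) = q * secLau a hI s := by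
  refine ⟨secLau 0 hI (c • oneSec (CohB1.polyGrading n R) _), fun a s => ?_⟩
  refine Eq.trans (congrArg (secLau a hI) (sectN_ext fun x => ?_))
    (secLau_mulSec (zero_add a) hI (c • oneSec (CohB1.polyGrading n R) _) s)
  refine (smul_coe c s x).trans (Eq.trans ?_ (mulSec_coe (zero_add a) _ s x).symm)
  refine congrArg (· * _) (Eq.trans ?_ (smul_coe c (oneSec (CohB1.polyGrading n R) _) x).symm)
  rw [oneSec_coe, mul_one]

theorem single_unit_mul (e : Expo n) :
    (AddMonoidAlgebra.single e (1 : R) : Lau n R) * AddMonoidAlgebra.single (-e) 1 = 1 := by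
  rw [AddMonoidAlgebra.single_mul_single, one_mul, add_neg_cancel]
  rfl

theorem single_mul_mem {c d : ℤ} {e : Expo n} (he : ∑ i, e i = c) {I : Finset (Fin (n + 1))}
    (hI : ∀ i, e i < 0 → i ∈ I) {p : Lau n R} (hp : p ∈ lauPart R d I) :
    AddMonoidAlgebra.single e (1 : R) * p ∈ lauPart R (c + d) I := by
  intro f hf
  rw [Finsupp.mem_support_iff] at hf
  obtain ⟨g, hg, rfl⟩ : ∃ g, p.coeff g ≠ 0 ∧ e + g = f := by
    refine ⟨-e + f, fun h0 => hf ?_, by abel⟩
    have := AddMonoidAlgebra.coeff_single_mul_add p (1 : R) e (-e + f)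
    rw [h0, mul_zero, add_neg_cancel_left] at this
    exact this
  refine ⟨?_, fun i hi => ?_⟩
  · simp [Finset.sum_add_distrib, he, (hp g (Finsupp.mem_support_iff.mpr hg)).1]
  · by_contra hiI
    have h1 : ¬ e i < 0 := fun h => hiI (hI i h)
    have h2 : ¬ g i < 0 := fun h => hiI ((hp g (Finsupp.mem_support_iff.mpr hg)).2 i h)
    simp only [Pi.add_apply] at hi
    omega

variable {a b : ℤ} (φ : twistProjSpace n R a ⟶ twistProjSpace n R b)

/-- The action of a morphism of twists on sections over `D₊(T^I)`. -/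
def onSect {I : Finset (Fin (n + 1))} (s : sectN (𝒜 := CohB1.polyGrading n R) a (op (dI R I))) :
    sectN (𝒜 := CohB1.polyGrading n R) b (op (dI R I)) :=
  φ.app (dI R I) s

theorem onSect_smul {I : Finset (Fin (n + 1))} (c : O (𝒜 := CohB1.polyGrading n R) (op (dI R I)))
    (s : sectN (𝒜 := CohB1.polyGrading n R) a (op (dI R I))) :
    onSect φ (c • s) = c • onSect φ s :=
  Scheme.Modules.Hom.app_smul φ (show Γ(CohB1.ProjSpace n R, dI R I) from c)
    (show Γ(twistProjSpace n R a, dI R I) from s)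

theorem onSect_res {I J : Finset (Fin (n + 1))} (h : I ⊆ J)
    (s : sectN (𝒜 := CohB1.polyGrading n R) a (op (dI R I))) :
    onSect φ (resN a (homOfLE (dI_anti (R := R) h)).op s) =
      resN b (homOfLE (dI_anti (R := R) h)).op (onSect φ s) :=
  PresheafOfModules.naturality_apply φ.val (homOfLE (dI_anti (R := R) h)).op s

/-- The multiplier on the `l`-th chart. -/
def multAt (l : Fin (n + 1)) : Lau n R :=
  AddMonoidAlgebra.single (-(a • ind {l})) 1 *
    secLau b (Finset.singleton_nonempty l) (onSect φ (gen a (Finset.mem_singleton_self l)))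

theorem gen_res {I : Finset (Fin (n + 1))} {l : Fin (n + 1)} (hl : l ∈ I)
    (hsub : ({l} : Finset (Fin (n + 1))) ⊆ I) :
    resN a (homOfLE (dI_anti (R := R) hsub)).op (gen (R := R) a (Finset.mem_singleton_self l)) =
      gen (R := R) a hl := rfl

theorem secLau_onSect_gen {I : Finset (Fin (n + 1))} {l : Fin (n + 1)} (hl : l ∈ I) :
    secLau b ⟨l, hl⟩ (onSect φ (gen a hl)) =
      secLau b (Finset.singleton_nonempty l) (onSect φ (gen a (Finset.mem_singleton_self l))) := by
  have hsub : ({l} : Finset (Fin (n + 1))) ⊆ I := Finset.singleton_subset_iff.mpr hl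
  exact ((congrArg (fun t => secLau b ⟨l, hl⟩ (onSect φ t)) (gen_res (a := a) hl hsub).symm).trans
    (congrArg (secLau b ⟨l, hl⟩) (onSect_res φ hsub _))).trans
      (secLau_res hsub (Finset.singleton_nonempty l) _ _)

theorem secLau_onSect_of_mem {I : Finset (Fin (n + 1))} {l : Fin (n + 1)} (hl : l ∈ I)
    (s : sectN (𝒜 := CohB1.polyGrading n R) a (op (dI R I))) :
    secLau b ⟨l, hl⟩ (onSect φ s) = multAt φ l * secLau a ⟨l, hl⟩ s := by
  obtain ⟨c, hc⟩ := (bijective_smul_unitSec (X_mem_polyGrading n R l) a (op (dI R I))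
    (X_not_mem hl)).surjective s
  change c • gen a hl = s at hc
  obtain ⟨q, hq⟩ := exists_secLau_smul ⟨l, hl⟩ c
  have e1 : secLau b ⟨l, hl⟩ (onSect φ s) = q * secLau b ⟨l, hl⟩ (onSect φ (gen a hl)) :=
    (congrArg (secLau b ⟨l, hl⟩) ((congrArg (onSect φ) hc.symm).trans (onSect_smul φ c _))).trans
      (hq b _)
  have e2 : secLau a ⟨l, hl⟩ s = q * secLau a ⟨l, hl⟩ (gen a hl) :=
    (congrArg (secLau a ⟨l, hl⟩) hc.symm).trans (hq a _)
  have key : ∀ G Gi Q : Lau n R, G * Gi = 1 → q * Q = Gi * Q * (q * G) := fun G Gi Q h => by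
    linear_combination (-(q * Q)) * h
  rw [e1, e2, secLau_onSect_gen φ hl, secLau_gen, multAt]
  exact key _ _ _ (single_unit_mul (R := R) (a • ind {l}))

theorem multAt_eq (l m : Fin (n + 1)) : multAt φ l = multAt φ m := by
  classical
  have hl : l ∈ ({l, m} : Finset (Fin (n + 1))) := by simp
  have hm : m ∈ ({l, m} : Finset (Fin (n + 1))) := by simp
  have h1 := secLau_onSect_of_mem φ hl (gen a hm)
  have h2 := secLau_onSect_of_mem φ hm (gen a hm)
  have h3 : multAt φ l * secLau a ⟨m, hm⟩ (gen (R := R) a hm) =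
      multAt φ m * secLau a ⟨m, hm⟩ (gen (R := R) a hm) := h1.symm.trans h2
  rw [secLau_gen] at h3
  exact (isUnit_iff_exists_inv.mpr ⟨_, single_unit_mul (R := R) (a • ind {m})⟩).mul_right_cancel h3

/-- The multiplier of a morphism of twists. -/
def mult : Lau n R := multAt φ 0

theorem secLau_onSect {I : Finset (Fin (n + 1))} (hI : I.Nonempty)
    (s : sectN (𝒜 := CohB1.polyGrading n R) a (op (dI R I))) :
    secLau b hI (onSect φ s) = mult φ * secLau a hI s := by
  obtain ⟨l, hl⟩ := hI
  rw [mult, multAt_eq φ 0 l]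
  exact secLau_onSect_of_mem φ hl s

theorem mult_mem (h : 1 ≤ n ∨ a ≤ b) : mult φ ∈ lauPart R (b - a) ∅ := by
  classical
  refine mem_lauPart_empty (h.imp_right fun h => by omega) fun l => ?_
  rw [mult, multAt_eq φ 0 l, show b - a = -a + b by ring]
  refine single_mul_mem (by simp [ind_apply]) (fun i hi => ?_) (secLau_mem b _ _)
  by_contra hil
  simp only [Finset.mem_singleton] at hil
  simp [ind_apply, hil] at hi

theorem eq_of_mult_eq {φ ψ : twistProjSpace n R a ⟶ twistProjSpace n R b} (h : mult φ = mult ψ) :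
    φ = ψ := by
  rw [← sub_eq_zero]
  have : (twistProjSpace n R a).IsQuasicoherent := isQCoh_twistProjSpace n R a
  refine eq_zero_of_app_eq_zero (φ - ψ) (fun l => dI R {l}) (fun l => ?_) ?_ fun l x => ?_
  · exact Proj.isAffineOpen_basicOpen (CohB1.polyGrading n R) _ (mI_mem _)
      (by simp)
  · refine le_antisymm le_top ((iSup_stdOpen n R).ge.trans (iSup_mono fun l y hy => ?_))
    show mI R {l} ∉ y.asHomogeneousIdeal
    rw [mI_eq_prod, Finset.prod_singleton]
    exact hy
  · show φ.app _ x - ψ.app _ x = 0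
    refine sub_eq_zero.mpr (eq_of_secLau_eq (Finset.singleton_nonempty l) ?_)
    exact (secLau_onSect φ _ x).trans ((congrArg (· * _) h).trans (secLau_onSect ψ _ x).symm)

variable (a b) in
/-- Multiplication by a form of degree `e` on twists. -/
def mulHom {e : ℕ} {p : MvPolynomial (Fin (n + 1)) R} (hp : p ∈ CohB1.polyGrading n R e)
    (h : (e : ℤ) + a = b) : twistProjSpace n R a ⟶ twistProjSpace n R b :=
  ⟨PresheafOfModules.homMk
    { app := fun U => AddCommGrpCat.ofHom
        (AddMonoidHom.mk' (fun t => mulSec h (numSec hp U) t) (fun s t => sectN_ext fun x =>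
          (mulSec_coe h (numSec hp U) _ x).trans ((congrArg (_ * ·) (add_coe s t x)).trans
            ((mul_add _ _ _).trans (add_coe (mulSec h (numSec hp U) s) (mulSec h (numSec hp U) t) x).symm))))
      naturality := fun _ _ _ => rfl }
    (fun U c t => sectN_ext fun x =>
      (mulSec_coe h (numSec hp U) _ x).trans
        ((congrArg (_ * ·) (smul_coe (show O (𝒜 := CohB1.polyGrading n R) U from c)
            (show sectN (𝒜 := CohB1.polyGrading n R) a U from t) x)).trans
          ((mul_left_comm _ _ _).trans (smul_coe (show O (𝒜 := CohB1.polyGrading n R) U from c)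
            (mulSec h (numSec hp U) t) x).symm)))⟩

theorem mult_mulHom {e : ℕ} {p : MvPolynomial (Fin (n + 1)) R} (hp : p ∈ CohB1.polyGrading n R e)
    (h : (e : ℤ) + a = b) : mult (mulHom a b hp h) = toLau p := by
  have hl : (0 : Fin (n + 1)) ∈ ({0} : Finset (Fin (n + 1))) := Finset.mem_singleton_self _
  have hne := Finset.singleton_nonempty (0 : Fin (n + 1))
  show AddMonoidAlgebra.single (-(a • ind {0})) 1 *
    secLau b hne (mulSec h (numSec hp _) (gen a hl)) = toLau p
  rw [secLau_mulSec h hne, secLau_gen, secLau_eq hne (s := numSec hp (op (dI R ({0} : Finset (Fin (n + 1))))))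
    (i := e) (j := 0) (a := p) ⟨(mem_homogeneousSubmodule e p).mp hp, by simp, fun x => ?_⟩]
  · rw [fracLau, zero_nsmul, neg_zero, show (AddMonoidAlgebra.single (0 : Expo n) (1 : R)) = 1 from rfl,
      mul_one, mul_left_comm, mul_comm (AddMonoidAlgebra.single (-_) (1 : R)), single_unit_mul]
    simp
  · rw [numSec_coe, ← Localization.mk_one_eq_algebraMap]
    congr 1

theorem exists_mulHom_eq {e : ℕ} (h : (e : ℤ) + a = b) :
    ∃ (p : MvPolynomial (Fin (n + 1)) R) (hp : p ∈ CohB1.polyGrading n R e), φ = mulHom a b hp h := by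
  have hm := mult_mem φ (Or.inr (by omega))
  rw [show b - a = (e : ℤ) by omega] at hm
  obtain ⟨⟨p, hp⟩, hpe⟩ := (polyLau_bijective (n := n) (R := R) e).2 ⟨mult φ, hm⟩
  exact ⟨p, hp, eq_of_mult_eq ((congrArg Subtype.val hpe).symm.trans (mult_mulHom hp h).symm)⟩

end Groth.Agent.SerrePn
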