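import Groth.Agent.SerrePn.Top
import Groth.Agent.SerrePn.Coherent

/-!
`O(-n-1)` represents the dual of top cohomology on coherent modules of `P^n` over a Noetherian ring.
-/

open CategoryTheory CategoryTheory.Limits AlgebraicGeometry

universe u

noncomputable section

namespace Groth.Agent.SerrePn

set_option maxHeartbeats 1000000

variable {n : ℕ} {R : Type u} [CommRing R]

/-- The dualizing twist. -/
abbrev omega (n : ℕ) (R : Type u) [CommRing R] : (CohB1.ProjSpace n R).Modules :=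
  Twist.twistProjSpace n R (-((n : ℤ) + 1))

/-- The linear form on `H^n(F)` attached to a morphism `F ⟶ ω`. -/
def pairing (n : ℕ) (R : Type u) [CommRing R] (F : (CohB1.ProjSpace n R).Modules) :
    (F ⟶ omega n R) →+ (Coh.HH (CohB1.ProjSpace n R) F n →ₗ[R] R) :=
  AddMonoidHom.mk' (fun φ => (trace n R).comp (CohLES.mapL R φ n)) fun f g => by
    rw [CohLES.mapL_add, LinearMap.comp_add]

theorem pairing_comp {F G : (CohB1.ProjSpace n R).Modules} (π : F ⟶ G) (φ : G ⟶ omega n R) :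
    pairing n R F (π ≫ φ) = (pairing n R G φ).comp (CohLES.mapL R π n) := by
  show (trace n R).comp (CohLES.mapL R (π ≫ φ) n) = _
  rw [CohLES.mapL_comp]
  rfl

theorem existsUnique_pairing_twist {d : ℕ} (hd : n + 1 ≤ d)
    (ψ : Coh.HH (CohB1.ProjSpace n R) (Twist.twistProjSpace n R (-(d : ℤ))) n →ₗ[R] R) :
    ∃! φ, pairing n R (Twist.twistProjSpace n R (-(d : ℤ))) φ = ψ := by
  have h := existsUnique_trace_map_eq (d := -(d : ℤ)) (k := d - (n + 1))
    (by omega) ψ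
  obtain ⟨φ, hφ, hu⟩ := h
  exact ⟨φ, hφ.symm, fun φ' h' => hu φ' h'.symm⟩

theorem pairing_sum_injective {κ : Type u} (d : κ → ℕ) (hd : ∀ j, n + 1 ≤ d j)
    (φ : (∐ fun j => Twist.twistProjSpace n R (-(d j : ℤ))) ⟶ omega n R)
    (h : pairing n R _ φ = 0) : φ = 0 := by
  refine Sigma.hom_ext _ _ fun j => ?_
  obtain ⟨φ₀, -, hu⟩ := existsUnique_pairing_twist (hd j) (0 : _ →ₗ[R] R)
  have e : pairing n R _ (Sigma.ι (fun j => Twist.twistProjSpace n R (-(d j : ℤ))) j ≫ φ) = 0 := by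
    rw [pairing_comp, h, LinearMap.zero_comp]
  exact ((hu _ e).trans (hu 0 (map_zero _)).symm).trans comp_zero.symm

theorem exists_pairing_sum {κ : Type u} [Finite κ] (d : κ → ℕ) (hd : ∀ j, n + 1 ≤ d j)
    (ψ : Coh.HH (CohB1.ProjSpace n R) (∐ fun j => Twist.twistProjSpace n R (-(d j : ℤ))) n →ₗ[R] R) :
    ∃ φ, pairing n R _ φ = ψ := by
  have := Fintype.ofFinite κ
  choose φ hφ using fun j => (existsUnique_pairing_twist (hd j)
    (ψ.comp (CohLES.mapL R (Sigma.ι (fun j => Twist.twistProjSpace n R (-(d j : ℤ))) j) n))).exists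
  refine ⟨Sigma.desc φ, LinearMap.ext fun x => ?_⟩
  rw [CohLES.exists_decomp R _ n x, map_sum, map_sum]
  refine Finset.sum_congr rfl fun j _ => ?_
  rw [← LinearMap.comp_apply (pairing n R _ (Sigma.desc φ)), ← pairing_comp, Sigma.ι_desc, hφ j,
    LinearMap.comp_apply]

variable [IsNoetherianRing R]

theorem pairing_injective (F : (CohB1.ProjSpace n R).Modules) (hF : Coh.IsCoh F)
    (φ : F ⟶ omega n R) (h : pairing n R F φ = 0) : φ = 0 := by
  obtain ⟨κ, hκ, d, π, hπ, hd⟩ := exists_epi F hF (n + 1)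
  rw [← cancel_epi π, comp_zero]
  exact pairing_sum_injective d hd _ (by rw [pairing_comp, h, LinearMap.zero_comp])

theorem exists_pairing_eq (F : (CohB1.ProjSpace n R).Modules) (hF : Coh.IsCoh F)
    (ψ : Coh.HH (CohB1.ProjSpace n R) F n →ₗ[R] R) : ∃ φ, pairing n R F φ = ψ := by
  have := isLocallyNoetherian (n := n) (R := R)
  obtain ⟨κ, hκ, d, π, hπ, hd⟩ := exists_epi F hF (n + 1)
  have hE : Coh.IsCoh (∐ fun j => Twist.twistProjSpace n R (-(d j : ℤ))) :=
    isCoh_coprod _ fun j => isCoh_twist _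
  let S : ShortComplex (CohB1.ProjSpace n R).Modules :=
    ShortComplex.mk (kernel.ι π) π (kernel.condition π)
  have hS : S.ShortExact :=
    { exact := S.exact_of_f_is_kernel (kernelIsKernel π) }
  have hK : Coh.IsCoh S.X₁ := CohDev.isCoh_kernel π hE hF.1
  obtain ⟨φ₀, hφ₀⟩ := exists_pairing_sum d hd (ψ.comp (CohLES.mapL R π n))
  have h0 : kernel.ι π ≫ φ₀ = 0 := pairing_injective _ hK _ (LinearMap.ext fun x => by
    rw [pairing_comp, hφ₀, LinearMap.comp_apply, LinearMap.comp_apply,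
      show CohLES.mapL R π n (CohLES.mapL R (kernel.ι π) n x) = 0 from
        CohLES.mapL_comp_eq_zero R (S := S) x, map_zero]
    rfl)
  obtain ⟨φ, hφ⟩ : ∃ φ, π ≫ φ = φ₀ :=
    ⟨Abelian.epiDesc π φ₀ h0, Abelian.comp_epiDesc π φ₀ h0⟩
  refine ⟨φ, LinearMap.ext fun x => ?_⟩
  have : Subsingleton (Coh.HH (CohB1.ProjSpace n R) S.X₁ (n + 1)) :=
    subsingleton_HH_of_lt hK.1 (Nat.lt_succ_self n)
  obtain ⟨y, hy⟩ := CohLES.exact₃ R hS (rfl : n + 1 = n + 1) x (Subsingleton.elim _ _)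
  rw [← hy]
  show (pairing n R F φ).comp (CohLES.mapL R π n) y = _
  rw [← pairing_comp, hφ, hφ₀]
  rfl

/-- Duality in degree zero for coherent modules. -/
theorem existsUnique_pairing (F : (CohB1.ProjSpace n R).Modules) (hF : Coh.IsCoh F)
    (ψ : Coh.HH (CohB1.ProjSpace n R) F n →ₗ[R] R) : ∃! φ, pairing n R F φ = ψ := by
  obtain ⟨φ, hφ⟩ := exists_pairing_eq F hF ψ
  refine ⟨φ, hφ, fun φ' h => sub_eq_zero.mp (pairing_injective F hF _ ?_)⟩
  rw [map_sub, h, hφ, sub_self]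

theorem existsUnique_trace (F : (CohB1.ProjSpace n R).Modules) (hF : Coh.IsCoh F)
    (ψ : Coh.HH (CohB1.ProjSpace n R) F n →ₗ[R] R) :
    ∃! φ : F ⟶ omega n R, ∀ x : Coh.HH (CohB1.ProjSpace n R) F n,
      ψ x = trace n R (Sheaf.H.map ((SheafOfModules.toSheaf
        (CohB1.ProjSpace n R).ringCatSheaf).map φ) n x) := by
  obtain ⟨φ, hφ, hu⟩ := existsUnique_pairing F hF ψ
  exact ⟨φ, fun x => by rw [← hφ]; rfl, fun φ' h' => hu φ' (LinearMap.ext fun x => (h' x).symm)⟩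

end Groth.Agent.SerrePn
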