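import Groth.Agent.SerrePn.Lau
import Groth.Agent.ProjTwist.Pn.Top
import Groth.Agent.CohLES.Basic

/-!
The pairing `Hom(O(d), ω) × H^n(P^n, O(d)) → R`.
-/

open CategoryTheory AlgebraicGeometry TopologicalSpace Opposite

universe u

noncomputable section

namespace Groth.Agent.SerrePn

open Twist CohAff MvPolynomial Groth.Agent.ProjTwist Groth.Agent.ProjTwist.Pn

set_option synthInstance.maxHeartbeats 400000
set_option maxHeartbeats 1000000

variable {n : ℕ} {R : Type u} [CommRing R]

theorem lauOf_map {a b : ℤ} (φ : twistProjSpace n R a ⟶ twistProjSpace n R b) {q : ℕ}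
    (x : Fin (q + 1) → ULift.{u} (Fin (n + 1)))
    (s : (tw n R a).obj.obj (op (inter (cov n R) x))) :
    lauOf x ((((SheafOfModules.toSheaf (CohB1.ProjSpace n R).ringCatSheaf).map φ).hom.app
      (op (inter (cov n R) x))).hom s) = mult φ * lauOf x s := by
  have key : toSect ((((SheafOfModules.toSheaf (CohB1.ProjSpace n R).ringCatSheaf).map φ).hom.app
      (op (inter (cov n R) x))).hom s) = onSect φ (toSect s) :=
    res_app _ _ s
  show secLau b (img_nonempty x) _ = mult φ * secLau a (img_nonempty x) _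
  exact (congrArg (secLau b (img_nonempty x)) key).trans (secLau_onSect φ (img_nonempty x) (toSect s))

theorem exists_map_classL {a b : ℤ} (φ : twistProjSpace n R a ⟶ twistProjSpace n R b) {q : ℕ}
    (f : cocL n R a q) :
    ∃ g : cocL n R b q, (∀ t, g.1 t = mult φ * f.1 t) ∧
      classL g = Sheaf.H.map ((SheafOfModules.toSheaf (CohB1.ProjSpace n R).ringCatSheaf).map φ) q
        (classL f) := by
  obtain ⟨c, hc, hcf⟩ := exists_cochain f
  let c' := cmap ((SheafOfModules.toSheaf (CohB1.ProjSpace n R).ringCatSheaf).map φ).hom (cov n R) q c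
  have hc' : cd (tw n R b).obj (cov n R) q c' = 0 :=
    (cd_cmap _ _ _ c).trans ((congrArg _ hc).trans (map_zero _))
  refine ⟨⟨lauC q c', lauC_mem c', tupD_lauC_eq_zero hc'⟩, fun t =>
    (lauOf_map φ (fun a => ⟨t a⟩) _).trans (congrArg (_ * ·) (congrFun hcf t)), ?_⟩
  rw [classL_eq f hc hcf, classL_eq ⟨lauC q c', lauC_mem c', tupD_lauC_eq_zero hc'⟩ hc' rfl]
  exact toH_map _ _ c hc

theorem classHom_eq_zero_iff {d : ℤ} {k : ℕ} (hd : d = -((n : ℤ) + 1 + k)) (f : cocL n R d n) :
    classHom n R d n f = 0 ↔ ∀ m, (f.1 id).coeff (negExp m) = 0 := by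
  subst hd
  rw [← LinearMap.mem_ker, ker_classHom_eq, LinearMap.mem_ker]
  refine ⟨fun h m => ?_, fun h => Subtype.ext (MvPolynomial.ext _ _ fun m => ?_)⟩
  · rw [← negPart_coeff, h]
    rfl
  · exact (negPart_coeff k f m).trans (h m)

theorem coeff_toLau_mul (p : MvPolynomial (Fin (n + 1)) R) (g : Lau n R) :
    (toLau p * g).coeff (negExp 0) = ∑ m ∈ p.support, p.coeff m * g.coeff (negExp m) := by
  conv_lhs => rw [p.as_sum, map_sum, Finset.sum_mul, AddMonoidAlgebra.coeff_sum,
    Finsupp.finsetSum_apply]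
  refine Finset.sum_congr rfl fun m _ => ?_
  have e : negExp (n := n) 0 = castExpo m + negExp m := by
    funext i
    simp [negExp, castExpo_apply]
    ring
  rw [toLau_monomial, e, AddMonoidAlgebra.coeff_single_mul_add]

variable (n R) in
/-- The exponents of degree `k`. -/
def degSet (k : ℕ) : Finset (Fin (n + 1) →₀ ℕ) := (Finsupp.finite_of_degree_le k).toFinset.filter
  fun m => m.degree = k

theorem mem_degSet {k : ℕ} {m : Fin (n + 1) →₀ ℕ} : m ∈ degSet n k ↔ m.degree = k := by
  simp only [degSet, Finset.mem_filter, Set.Finite.mem_toFinset]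
  exact ⟨fun h => h.2, fun h => ⟨le_of_eq h, h⟩⟩

section

variable {d : ℤ} {k : ℕ} (hd : d = -((n : ℤ) + 1 + k))

variable (R) in
/-- The classes of the basic cocycles. -/
def basicClass (m : Fin (n + 1) →₀ ℕ) (hm : m.degree = k) :
    Coh.HH (CohB1.ProjSpace n R) (twistProjSpace n R d) n :=
  classHom n R d n (detCoc n R m (by rw [sum_negExp, hm, hd]; ring))

theorem detCoc_id (m : Fin (n + 1) →₀ ℕ) (hm : ∑ i, negExp m i = d) :
    (detCoc n R m hm).1 id = AddMonoidAlgebra.single (negExp m) 1 := by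
  show AddMonoidAlgebra.single (negExp m) (tupMat id : Matrix _ _ R).det = _
  rw [tupMat_id, Matrix.det_one]

theorem classHom_eq_sum (f : cocL n R d n) :
    classHom n R d n f = ∑ m ∈ (degSet n k).attach,
      (f.1 id).coeff (negExp m.1) • basicClass R hd m.1 (mem_degSet.mp m.2) := by
  classical
  simp only [basicClass, ← map_smul, ← map_sum]
  rw [← sub_eq_zero, ← map_sub, classHom_eq_zero_iff hd]
  intro m
  rw [Submodule.coe_sub, Pi.sub_apply, AddSubmonoidClass.coe_finsetSum, Finset.sum_apply,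
    AddMonoidAlgebra.coeff_sub, AddMonoidAlgebra.coeff_sum, Finsupp.sub_apply,
    Finsupp.finsetSum_apply]
  simp only [SetLike.val_smul, Pi.smul_apply, detCoc_id, AddMonoidAlgebra.coeff_smul,
    AddMonoidAlgebra.coeff_single, Finsupp.smul_apply, smul_eq_mul, Finsupp.single_apply, mul_ite,
    mul_one, mul_zero]
  rw [Finset.sum_attach (degSet n k) fun x => if negExp x = negExp m then (f.1 id).coeff (negExp x) else 0]
  simp only [negExp_injective.eq_iff, Finset.sum_ite_eq']
  split_ifs with h
  · exact sub_self _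
  · rw [sub_zero]
    by_contra hne
    have hs := (f.2.1 id (negExp m) (Finsupp.mem_support_iff.mpr hne)).1
    rw [sum_negExp, hd] at hs
    exact h (mem_degSet.mpr (by omega))

end

variable (n R) in
/-- The coefficient of `1 / (T_0 ⋯ T_n)`. -/
def coeffTop : cocL n R (-((n : ℤ) + 1)) n →ₗ[R] R where
  toFun f := (f.1 id).coeff (negExp 0)
  map_add' _ _ := rfl
  map_smul' _ _ := rfl

theorem ker_classHom_le :
    LinearMap.ker (classHom n R (-((n : ℤ) + 1)) n) ≤ LinearMap.ker (coeffTop n R) := fun f hf =>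
  (classHom_eq_zero_iff (k := 0) (by simp) f).mp hf 0

variable (n R) in
/-- The residue map `H^n(P^n, O(-n-1)) → R`. -/
def trace : Coh.HH (CohB1.ProjSpace n R) (twistProjSpace n R (-((n : ℤ) + 1))) n →ₗ[R] R :=
  (Submodule.liftQ _ (coeffTop n R) ker_classHom_le).comp
    (LinearMap.quotKerEquivOfSurjective (classHom n R (-((n : ℤ) + 1)) n)
      (classHom_surjective n)).symm.toLinearMap

theorem trace_classHom (f : cocL n R (-((n : ℤ) + 1)) n) :
    trace n R (classHom n R _ n f) = (f.1 id).coeff (negExp 0) := by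
  have e : (LinearMap.quotKerEquivOfSurjective (classHom n R (-((n : ℤ) + 1)) n)
      (classHom_surjective n)).symm (classHom n R _ n f) = Submodule.Quotient.mk f :=
    (LinearEquiv.symm_apply_eq _).mpr rfl
  rw [trace, LinearMap.comp_apply, LinearEquiv.coe_coe, e, Submodule.liftQ_apply]
  rfl

theorem trace_bijective : Function.Bijective (trace n R) := by
  have hd : -((n : ℤ) + 1) = -((n : ℤ) + 1 + (0 : ℕ)) := by simp
  refine ⟨(injective_iff_map_eq_zero _).mpr fun x hx => ?_, fun r => ?_⟩
  · obtain ⟨f, rfl⟩ := classHom_surjective (R := R) (d := -((n : ℤ) + 1)) n x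
    rw [trace_classHom] at hx
    rw [classHom_eq_sum hd f]
    refine Finset.sum_eq_zero fun m _ => ?_
    have e : negExp m.1 = negExp (n := n) 0 :=
      congrArg negExp ((Finsupp.degree_eq_zero_iff _).mp (mem_degSet.mp m.2))
    rw [e, hx, zero_smul]
  · refine ⟨r • basicClass R hd 0 (by simp), ?_⟩
    rw [map_smul, basicClass, trace_classHom, detCoc_id]
    simp

theorem trace_map {a : ℤ} (φ : twistProjSpace n R a ⟶ twistProjSpace n R (-((n : ℤ) + 1)))
    (f : cocL n R a n) :
    trace n R (CohLES.mapL R φ n (classHom n R a n f)) = (mult φ * f.1 id).coeff (negExp 0) := by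
  obtain ⟨g, hg, hgc⟩ := exists_map_classL φ f
  rw [CohLES.mapL_apply, classHom_apply, ← hgc, ← classHom_apply, trace_classHom, hg]

theorem trace_map_basicClass {d : ℤ} {k : ℕ} (hd : d = -((n : ℤ) + 1 + k))
    {p : MvPolynomial (Fin (n + 1)) R} (hp : p ∈ CohB1.polyGrading n R k)
    (h : (k : ℤ) + d = -((n : ℤ) + 1)) (m : Fin (n + 1) →₀ ℕ) (hm : m.degree = k) :
    trace n R (CohLES.mapL R (mulHom d _ hp h) n (basicClass R hd m hm)) = p.coeff m := by
  rw [basicClass, trace_map, mult_mulHom, detCoc_id, coeff_toLau_mul]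
  simp only [AddMonoidAlgebra.coeff_single, Finsupp.single_apply, negExp_injective.eq_iff]
  simp [eq_comm, mem_support_iff]

/-- Perfectness of the pairing for very negative twists. -/
theorem existsUnique_trace_map_eq {d : ℤ} {k : ℕ} (hd : d = -((n : ℤ) + 1 + k))
    (ψ : Coh.HH (CohB1.ProjSpace n R) (twistProjSpace n R d) n →ₗ[R] R) :
    ∃! φ : twistProjSpace n R d ⟶ twistProjSpace n R (-((n : ℤ) + 1)),
      ψ = (trace n R).comp (CohLES.mapL R φ n) := by
  classical
  have h : (k : ℤ) + d = -((n : ℤ) + 1) := by omega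
  let p : MvPolynomial (Fin (n + 1)) R := ∑ m ∈ (degSet n k).attach,
    monomial m.1 (ψ (basicClass R hd m.1 (mem_degSet.mp m.2)))
  have hp : p ∈ CohB1.polyGrading n R k := Submodule.sum_mem _ fun m _ =>
    (mem_homogeneousSubmodule _ _).mpr (isHomogeneous_monomial _ (mem_degSet.mp m.2))
  have hcoef : ∀ m (hm : m.degree = k), p.coeff m = ψ (basicClass R hd m hm) := fun m hm => by
    rw [coeff_sum, Finset.sum_eq_single ⟨m, mem_degSet.mpr hm⟩]
    · simp
    · intro m' _ hne
      rw [coeff_monomial, if_neg fun e => hne (Subtype.ext e)]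
    · simp
  refine ⟨mulHom d _ hp h, LinearMap.ext fun x => ?_, fun φ hφ => ?_⟩
  · obtain ⟨f, rfl⟩ := classHom_surjective (R := R) (d := d) n x
    rw [LinearMap.comp_apply, classHom_eq_sum hd f, map_sum, map_sum, map_sum]
    refine Finset.sum_congr rfl fun m _ => ?_
    rw [map_smul, map_smul, map_smul, trace_map_basicClass hd hp h, hcoef]
  · obtain ⟨q, hq, rfl⟩ := exists_mulHom_eq φ h
    refine eq_of_mult_eq ?_
    rw [mult_mulHom, mult_mulHom]
    congr 1
    refine MvPolynomial.ext _ _ fun m => ?_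
    by_cases hm : m.degree = k
    · rw [hcoef m hm, hφ, LinearMap.comp_apply, trace_map_basicClass hd hq h m hm]
    · rw [IsHomogeneous.coeff_eq_zero ((mem_homogeneousSubmodule _ _).mp hq) hm,
        IsHomogeneous.coeff_eq_zero ((mem_homogeneousSubmodule _ _).mp hp) hm]

/-- There are no morphisms to a smaller twist. -/
theorem subsingleton_hom (hn : 1 ≤ n) {a b : ℤ} (h : b < a) :
    Subsingleton (twistProjSpace n R a ⟶ twistProjSpace n R b) := ⟨fun φ ψ => eq_of_mult_eq (by
  have h1 := mult_mem φ (Or.inl hn)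
  have h2 := mult_mem ψ (Or.inl hn)
  rw [lauPart_empty_eq_bot (by omega), Submodule.mem_bot] at h1 h2
  rw [h1, h2])⟩

end Groth.Agent.SerrePn
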